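import Mathlib

/-! # The universal property of extension of scalars, in `ModuleCat`. -/

universe u
open CategoryTheory Limits

namespace Groth.Agent.LD.Chaotic

section Ring
variable {A B : Type u} [Ring A] [Ring B] (f : A →+* B)

/-- `φ : M → N` (semilinear over `f`) exhibits `N` as the extension of scalars of `M`: the
universal property. -/
def IsBC {M : ModuleCat.{u} A} {N : ModuleCat.{u} B}
    (φ : M ⟶ (ModuleCat.restrictScalars f).obj N) : Prop :=
  ∀ (Q : ModuleCat.{u} B) (ψ : M ⟶ (ModuleCat.restrictScalars f).obj Q),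
    ∃! θ : N ⟶ Q, φ ≫ (ModuleCat.restrictScalars f).map θ = ψ

variable {f}

/-- a surjective linear map with kernel contained in the kernel of `r` factors `r`. -/
lemma exists_factor {A : Type*} [Ring A] {L N Q : Type*} [AddCommGroup L] [Module A L]
    [AddCommGroup N] [Module A N] [AddCommGroup Q] [Module A Q]
    (p : L →ₗ[A] N) (hp : Function.Surjective p) (r : L →ₗ[A] Q)
    (h : ∀ x, p x = 0 → r x = 0) : ∃ θ : N →ₗ[A] Q, ∀ x, θ (p x) = r x := by
  have hker : LinearMap.ker p ≤ LinearMap.ker r := fun x hx =>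
    LinearMap.mem_ker.mpr (h x (LinearMap.mem_ker.mp hx))
  refine ⟨(Submodule.liftQ (LinearMap.ker p) r hker) ∘ₗ
    (p.quotKerEquivOfSurjective hp).symm.toLinearMap, fun x => ?_⟩
  have e : (p.quotKerEquivOfSurjective hp).symm (p x) = Submodule.Quotient.mk x := by
    rw [LinearEquiv.symm_apply_eq]
    exact (LinearMap.quotKerEquivOfSurjective_apply_mk p hp x).symm
  change (Submodule.liftQ (LinearMap.ker p) r hker)
    ((p.quotKerEquivOfSurjective hp).symm (p x)) = r x
  rw [e]
  exact Submodule.liftQ_apply _ _ _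

/-- elementwise form of the existence part. -/
theorem IsBC.exists_lift {M : ModuleCat.{u} A} {N : ModuleCat.{u} B}
    {φ : M ⟶ (ModuleCat.restrictScalars f).obj N} (h : IsBC f φ) (Q : ModuleCat.{u} B)
    (ψ : M → Q) (hadd : ∀ m m', ψ (m + m') = ψ m + ψ m')
    (hsmul : ∀ (a : A) (m : M), ψ (a • m) = f a • ψ m) :
    ∃ θ : N →ₗ[B] Q, ∀ m : M, θ (φ.hom m) = ψ m := by
  let l : M →ₗ[A] ((ModuleCat.restrictScalars f).obj Q) :=
    { toFun := ψ
      map_add' := hadd
      map_smul' := fun a m => hsmul a m }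
  let ψ' : M ⟶ (ModuleCat.restrictScalars f).obj Q :=
    ModuleCat.ofHom (Y := ((ModuleCat.restrictScalars f).obj Q)) l
  obtain ⟨θ, hθ, -⟩ := h Q ψ'
  have hθ' : φ ≫ (ModuleCat.restrictScalars f).map θ = ψ' := hθ
  refine ⟨θ.hom, fun m => ?_⟩
  exact congrArg (fun t : M ⟶ (ModuleCat.restrictScalars f).obj Q => t.hom m) hθ'

/-- the image of `φ` spans. -/
theorem IsBC.mem_span {M : ModuleCat.{u} A} {N : ModuleCat.{u} B}
    {φ : M ⟶ (ModuleCat.restrictScalars f).obj N} (h : IsBC f φ) (n : N) :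
    n ∈ Submodule.span B (Set.range (fun m : M => (φ.hom m : N))) := by
  let S : Submodule B N := Submodule.span B (Set.range (fun m : M => (φ.hom m : N)))
  change n ∈ S
  let Q : ModuleCat.{u} B := ModuleCat.of B (N ⧸ S)
  let q : N ⟶ Q := ModuleCat.ofHom S.mkQ
  have h1 : φ ≫ (ModuleCat.restrictScalars f).map q = 0 := by
    apply ModuleCat.hom_ext
    apply LinearMap.ext
    intro m
    change S.mkQ (φ.hom m : N) = 0
    refine (Submodule.Quotient.mk_eq_zero S).mpr ?_
    exact Submodule.subset_span ⟨m, rfl⟩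
  have h2 : φ ≫ (ModuleCat.restrictScalars f).map (0 : N ⟶ Q) = 0 := by
    apply ModuleCat.hom_ext
    apply LinearMap.ext
    intro m
    rfl
  have h3 : q = 0 := (h Q 0).unique h1 h2
  have h4 : S.mkQ n = 0 := congrArg (fun t : N ⟶ Q => t.hom n) h3
  exact (Submodule.Quotient.mk_eq_zero S).mp h4

/-- the universal property from its elementwise form. -/
theorem isBC_of_elementwise {M : ModuleCat.{u} A} {N : ModuleCat.{u} B}
    (φ : M ⟶ (ModuleCat.restrictScalars f).obj N)
    (hex : ∀ (Q : ModuleCat.{u} B) (ψ : M → Q), (∀ m m', ψ (m + m') = ψ m + ψ m') →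
      (∀ (a : A) (m : M), ψ (a • m) = f a • ψ m) →
      ∃ θ : N →ₗ[B] Q, ∀ m : M, θ (φ.hom m) = ψ m)
    (hspan : ∀ n : N, n ∈ Submodule.span B (Set.range (fun m : M => (φ.hom m : N)))) :
    IsBC f φ := by
  intro Q ψ
  obtain ⟨θ, hθ⟩ := hex Q (fun m => (ψ.hom m : Q)) (fun m m' => ψ.hom.map_add m m')
    (fun a m => ψ.hom.map_smul a m)
  refine ⟨ModuleCat.ofHom θ, ?_, ?_⟩
  · change φ ≫ (ModuleCat.restrictScalars f).map (ModuleCat.ofHom θ) = ψ
    apply ModuleCat.hom_ext
    apply LinearMap.ext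
    intro m
    exact hθ m
  · intro θ' hθ'
    have hθ'' : φ ≫ (ModuleCat.restrictScalars f).map θ' = ψ := hθ'
    have e1 : ∀ m : M, θ'.hom (φ.hom m : N) = (ψ.hom m : Q) := fun m =>
      congrArg (fun t : M ⟶ (ModuleCat.restrictScalars f).obj Q => t.hom m) hθ''
    have key : ∀ n : N, n ∈ Submodule.span B (Set.range (fun m : M => (φ.hom m : N))) →
        θ'.hom n = θ n := by
      intro n hn
      induction hn using Submodule.span_induction with
      | mem x hx =>
        obtain ⟨m, rfl⟩ := hx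
        exact (e1 m).trans (hθ m).symm
      | zero => rw [map_zero, map_zero]
      | add x y _ _ hx hy => rw [map_add, map_add, hx, hy]
      | smul a x _ hx => rw [map_smul, map_smul, hx]
    apply ModuleCat.hom_ext
    apply LinearMap.ext
    intro n
    exact key n (hspan n)

end Ring

section Comm
variable {A B : Type u} [CommRing A] [CommRing B] (f : A →+* B)

/-- the base-change map attached to a semilinear map. -/
noncomputable def bcMap {M : ModuleCat.{u} A} {N : ModuleCat.{u} B}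
    (φ : M ⟶ (ModuleCat.restrictScalars f).obj N) : (ModuleCat.extendScalars f).obj M ⟶ N :=
  ((ModuleCat.extendRestrictScalarsAdj f).homEquiv M N).symm φ

lemma homEquiv_bcMap {M : ModuleCat.{u} A} {N : ModuleCat.{u} B}
    (φ : M ⟶ (ModuleCat.restrictScalars f).obj N) :
    ((ModuleCat.extendRestrictScalarsAdj f).homEquiv M N) (bcMap f φ) = φ :=
  Equiv.apply_symm_apply _ _

lemma homEquiv_bcMap_comp {M : ModuleCat.{u} A} {N Q : ModuleCat.{u} B}
    (φ : M ⟶ (ModuleCat.restrictScalars f).obj N) (θ : N ⟶ Q) :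
    ((ModuleCat.extendRestrictScalarsAdj f).homEquiv M Q) (bcMap f φ ≫ θ) =
      φ ≫ (ModuleCat.restrictScalars f).map θ := by
  rw [Adjunction.homEquiv_naturality_right, homEquiv_bcMap]

theorem isBC_of_isIso {M : ModuleCat.{u} A} {N : ModuleCat.{u} B}
    (φ : M ⟶ (ModuleCat.restrictScalars f).obj N) (h : IsIso (bcMap f φ)) : IsBC f φ := by
  intro Q ψ
  refine ⟨inv (bcMap f φ) ≫ ((ModuleCat.extendRestrictScalarsAdj f).homEquiv M Q).symm ψ,
    ?_, ?_⟩
  · change φ ≫ (ModuleCat.restrictScalars f).map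
      (inv (bcMap f φ) ≫ ((ModuleCat.extendRestrictScalarsAdj f).homEquiv M Q).symm ψ) = ψ
    rw [← homEquiv_bcMap_comp, IsIso.hom_inv_id_assoc, Equiv.apply_symm_apply]
  · intro θ' hθ'
    have hθ'' : φ ≫ (ModuleCat.restrictScalars f).map θ' = ψ := hθ'
    have h2 : bcMap f φ ≫ θ' =
        ((ModuleCat.extendRestrictScalarsAdj f).homEquiv M Q).symm ψ := by
      rw [Equiv.eq_symm_apply, homEquiv_bcMap_comp, hθ'']
    rw [← h2, IsIso.inv_hom_id_assoc]

theorem isIso_of_isBC {M : ModuleCat.{u} A} {N : ModuleCat.{u} B}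
    (φ : M ⟶ (ModuleCat.restrictScalars f).obj N) (h : IsBC f φ) : IsIso (bcMap f φ) := by
  obtain ⟨ρ, hρ, -⟩ := h ((ModuleCat.extendScalars f).obj M)
    (((ModuleCat.extendRestrictScalarsAdj f).homEquiv M ((ModuleCat.extendScalars f).obj M))
      (𝟙 _))
  have hρ' : φ ≫ (ModuleCat.restrictScalars f).map ρ =
      ((ModuleCat.extendRestrictScalarsAdj f).homEquiv M ((ModuleCat.extendScalars f).obj M))
        (𝟙 _) := hρ
  have c1 : bcMap f φ ≫ ρ = 𝟙 _ := by
    apply ((ModuleCat.extendRestrictScalarsAdj f).homEquiv M _).injective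
    rw [homEquiv_bcMap_comp, hρ']
  have c2 : ρ ≫ bcMap f φ = 𝟙 N := by
    have p1 : φ ≫ (ModuleCat.restrictScalars f).map (ρ ≫ bcMap f φ) = φ := by
      rw [CategoryTheory.Functor.map_comp, ← Category.assoc, hρ', ← Adjunction.homEquiv_naturality_right,
        Category.id_comp, homEquiv_bcMap]
    have p2 : φ ≫ (ModuleCat.restrictScalars f).map (𝟙 N) = φ := by
      rw [CategoryTheory.Functor.map_id, Category.comp_id]
    exact (h N φ).unique p1 p2
  exact ⟨⟨ρ, c1, c2⟩⟩

theorem isIso_iff_isBC {M : ModuleCat.{u} A} {N : ModuleCat.{u} B}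
    (φ : M ⟶ (ModuleCat.restrictScalars f).obj N) : IsIso (bcMap f φ) ↔ IsBC f φ :=
  ⟨isBC_of_isIso f φ, isIso_of_isBC f φ⟩

end Comm

end Groth.Agent.LD.Chaotic
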