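import Groth.Agent.Lib.Lead.Chaotic.TrivTop
import Groth.Agent.Lib.Lead.Chaotic.BCAlg

/-! # Quasi-coherent modules for a trivial topology: the base-change criterion. -/

universe u
open CategoryTheory Limits Opposite

namespace Groth.Agent.LD.Chaotic

open Groth.Agent.LD.RSp

section Crit
variable {C : Type u} [SmallCategory C] {J : GrothendieckTopology C} {R : Sheaf J RingCat.{u}}

/-- elementwise base-change property of `F` along `γ : Y' ⟶ Y`: the restrictions span. -/
def BCSpan (F : SheafOfModules.{u} R) {Y Y' : C} (γ : Y' ⟶ Y) : Prop :=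
  ∀ n : F.val.obj (op Y'), n ∈ Submodule.span (R.obj.obj (op Y')) (Set.range (rs F γ))

/-- elementwise base-change property of `F` along `γ : Y' ⟶ Y`: semilinear maps out of
`F(Y)` extend to linear maps out of `F(Y')`. -/
def BCLift (F : SheafOfModules.{u} R) {Y Y' : C} (γ : Y' ⟶ Y) : Prop :=
  ∀ (Q : ModuleCat.{u} (R.obj.obj (op Y'))) (ψ : F.val.obj (op Y) → Q),
    (∀ m m', ψ (m + m') = ψ m + ψ m') →
    (∀ (a : R.obj.obj (op Y)) (m : F.val.obj (op Y)),
      ψ (a • m) = (R.obj.map γ.op a : R.obj.obj (op Y')) • ψ m) →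
    ∃ θ : F.val.obj (op Y') →ₗ[R.obj.obj (op Y')] Q, ∀ m, θ (rs F γ m) = ψ m

/-! ## From a presentation to base change -/

theorem bcSpan_of_presentation (hJ : IsTriv J) (F : SheafOfModules.{u} R) (P : F.Presentation)
    {Y Y' : C} (γ : Y' ⟶ Y) : BCSpan F γ := by
  intro n
  haveI : Epi P.generators.π := P.generators.epi
  obtain ⟨x, hx⟩ := hJ.surjective_of_epi P.generators.π Y' n
  have hx' := hJ.free_mem_span R P.generators.I Y' x
  have h1 : evAt _ _ Y' P.generators.π x ∈
      Submodule.map (evAt _ _ Y' P.generators.π)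
        (Submodule.span (R.obj.obj (op Y'))
          (Set.range fun i => basI R P.generators.I i Y')) :=
    Submodule.mem_map_of_mem hx'
  rw [Submodule.map_span, hx] at h1
  refine Submodule.span_mono ?_ h1
  rintro _ ⟨_, ⟨i, rfl⟩, rfl⟩
  refine ⟨PresheafOfModules.sections.eval (P.generators.s i) (op Y), ?_⟩
  exact (PresheafOfModules.sections_property (P.generators.s i) γ.op).trans
    (freeHom_basI R P.generators.I F P.generators.s i Y').symm

theorem bcLift_of_presentation (hJ : IsTriv J) (F : SheafOfModules.{u} R) (P : F.Presentation)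
    {Y Y' : C} (γ : Y' ⟶ Y) : BCLift F γ := by
  intro Q ψ hadd hsmul
  haveI : Epi P.generators.π := P.generators.epi
  haveI : Epi P.relations.π := P.relations.epi
  have hψ0 : ψ 0 = 0 := by
    have h : ψ 0 + ψ 0 = ψ 0 + 0 := by rw [← hadd, add_zero, add_zero]
    exact add_left_cancel h
  obtain ⟨ρ, hρ⟩ := hJ.free_exists_desc R P.generators.I Y' Q
    (fun i => ψ (PresheafOfModules.sections.eval (P.generators.s i) (op Y)))
  have claim : ∀ z : (SheafOfModules.free (R := R) P.generators.I).val.obj (op Y),
      ρ.hom (rs _ γ z) = ψ (evAt _ _ Y P.generators.π z) := by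
    intro z
    have hz := hJ.free_mem_span R P.generators.I Y z
    induction hz using Submodule.span_induction with
    | mem x hx =>
      obtain ⟨i, rfl⟩ := hx
      rw [rs_basI, hρ, freeHom_basI]
    | zero => rw [rs_zero, map_zero, map_zero, hψ0]
    | add x y _ _ hx hy => rw [rs_add, map_add, map_add, hadd, hx, hy]
    | smul a x _ hx => rw [rs_smul, map_smul, map_smul, hsmul, hx]
  have hker : ∀ x : (SheafOfModules.free (R := R) P.generators.I).val.obj (op Y'),
      evAt _ _ Y' P.generators.π x = 0 → ρ.hom x = 0 := by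
    intro x hx
    obtain ⟨k, hk⟩ := exists_kernel_lift P.generators.π Y' x hx
    have hk' : evAt _ _ Y' (kernel.ι P.generators.π) k = x := hk
    obtain ⟨w, hw⟩ := hJ.surjective_of_epi P.relations.π Y' k
    let Λ : (SheafOfModules.free (R := R) P.relations.I).val.obj (op Y') →ₗ[R.obj.obj (op Y')]
        Q :=
      ρ.hom ∘ₗ (evAt _ _ Y' (kernel.ι P.generators.π)) ∘ₗ (evAt _ _ Y' P.relations.π)
    have hΛ : Submodule.span (R.obj.obj (op Y'))
        (Set.range fun j => basI R P.relations.I j Y') ≤ LinearMap.ker Λ := by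
      rw [Submodule.span_le]
      rintro _ ⟨j, rfl⟩
      rw [SetLike.mem_coe, LinearMap.mem_ker]
      change ρ.hom (evAt _ _ Y' (kernel.ι P.generators.π)
        (evAt _ _ Y' P.relations.π (basI R P.relations.I j Y'))) = 0
      have e1 : evAt _ _ Y' P.relations.π (basI R P.relations.I j Y') =
          rs (kernel P.generators.π) γ
            (PresheafOfModules.sections.eval (P.relations.s j) (op Y)) :=
        (freeHom_basI R P.relations.I (kernel P.generators.π) P.relations.s j Y').trans
          (PresheafOfModules.sections_property (P.relations.s j) γ.op).symm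
      have e2 : evAt _ _ Y' (kernel.ι P.generators.π)
          (rs (kernel P.generators.π) γ
            (PresheafOfModules.sections.eval (P.relations.s j) (op Y))) =
          rs _ γ (evAt _ _ Y (kernel.ι P.generators.π)
            (PresheafOfModules.sections.eval (P.relations.s j) (op Y))) :=
        app_rs (kernel.ι P.generators.π) γ _
      have e3 : evAt _ _ Y P.generators.π (evAt _ _ Y (kernel.ι P.generators.π)
          (PresheafOfModules.sections.eval (P.relations.s j) (op Y))) = 0 :=
        kernel_ι_app P.generators.π Y _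
      rw [e1, e2, claim, e3, hψ0]
    have hwΛ : Λ w = 0 :=
      LinearMap.mem_ker.mp (hΛ (hJ.free_mem_span R P.relations.I Y' w))
    have hΛw : Λ w = ρ.hom x := by
      change ρ.hom (evAt _ _ Y' (kernel.ι P.generators.π)
        (evAt _ _ Y' P.relations.π w)) = ρ.hom x
      rw [hw, hk']
    exact hΛw.symm.trans hwΛ
  obtain ⟨θ, hθ⟩ := exists_factor (evAt _ _ Y' P.generators.π)
    (hJ.surjective_of_epi P.generators.π Y') ρ.hom hker
  refine ⟨θ, fun m => ?_⟩
  obtain ⟨z, hz⟩ := hJ.surjective_of_epi P.generators.π Y m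
  have e4 : rs F γ (evAt _ _ Y P.generators.π z) =
      evAt _ _ Y' P.generators.π (rs _ γ z) := (app_rs P.generators.π γ z).symm
  rw [← hz, e4, hθ, claim]

/-! ## From base change to a presentation, on a site with a terminal object -/

variable {T : C} (hT : IsTerminal T)

/-- the sections attached to the elements over the terminal object. -/
noncomputable def sT (F : SheafOfModules.{u} R) : F.val.obj (op T) → F.sections :=
  fun m => secOfTerminal hT F m

/-- the morphism from the free module on the elements over the terminal object. -/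
noncomputable def πT (F : SheafOfModules.{u} R) :
    SheafOfModules.free (R := R) (F.val.obj (op T)) ⟶ F :=
  F.freeHomEquiv.symm (sT hT F)

lemma πT_bas (F : SheafOfModules.{u} R) (m : F.val.obj (op T)) (Y : C) :
    evAt _ _ Y (πT hT F) (basI R (F.val.obj (op T)) m Y) = rs F (hT.from Y) m :=
  freeHom_basI R (F.val.obj (op T)) F (sT hT F) m Y

lemma πT_bas_T (F : SheafOfModules.{u} R) (m : F.val.obj (op T)) :
    evAt _ _ T (πT hT F) (basI R (F.val.obj (op T)) m T) = m := by
  rw [πT_bas]
  have h : hT.from T = 𝟙 T := hT.hom_ext _ _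
  rw [h, rs_id]

lemma πT_surjective (F : SheafOfModules.{u} R) (hspan : ∀ Y : C, BCSpan F (hT.from Y)) (Y : C) :
    Function.Surjective (evAt _ _ Y (πT hT F)) := by
  intro t
  have h1 : Submodule.span (R.obj.obj (op Y)) (Set.range (rs F (hT.from Y))) ≤
      LinearMap.range (evAt _ _ Y (πT hT F)) := by
    rw [Submodule.span_le]
    rintro _ ⟨m, rfl⟩
    exact ⟨basI R (F.val.obj (op T)) m Y, πT_bas hT F m Y⟩
  exact LinearMap.mem_range.mp (h1 (hspan Y t))

/-- the kernel of `πT` is spanned by restrictions from the terminal object. -/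
theorem kernel_bcSpan (hJ : IsTriv J) (F : SheafOfModules.{u} R)
    (hlift : ∀ Y : C, BCLift F (hT.from Y)) (Y : C) :
    BCSpan (kernel (πT hT F)) (hT.from Y) := by
  intro κ
  -- the image of the span in the free module
  let N : Submodule (R.obj.obj (op Y))
      ((SheafOfModules.free (R := R) (F.val.obj (op T))).val.obj (op Y)) :=
    Submodule.map (evAt _ _ Y (kernel.ι (πT hT F)))
      (Submodule.span (R.obj.obj (op Y)) (Set.range (rs (kernel (πT hT F)) (hT.from Y))))
  -- restrictions of relations over the terminal object lie in `N`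
  have hG : ∀ d : (SheafOfModules.free (R := R) (F.val.obj (op T))).val.obj (op T),
      evAt _ _ T (πT hT F) d = 0 → rs _ (hT.from Y) d ∈ N := by
    intro d hd
    obtain ⟨k, hk⟩ := exists_kernel_lift (πT hT F) T d hd
    have hk' : evAt _ _ T (kernel.ι (πT hT F)) k = d := hk
    refine ⟨rs (kernel (πT hT F)) (hT.from Y) k, Submodule.subset_span ⟨k, rfl⟩, ?_⟩
    rw [← hk']
    exact app_rs (kernel.ι (πT hT F)) (hT.from Y) k
  let Q : ModuleCat.{u} (R.obj.obj (op Y)) :=
    ModuleCat.of _ (((SheafOfModules.free (R := R) (F.val.obj (op T))).val.obj (op Y)) ⧸ N)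
  let ψ : F.val.obj (op T) → Q := fun m => N.mkQ (basI R (F.val.obj (op T)) m Y)
  have hadd : ∀ m m', ψ (m + m') = ψ m + ψ m' := by
    intro m m'
    have hd : evAt _ _ T (πT hT F)
        (basI R (F.val.obj (op T)) (m + m') T - basI R (F.val.obj (op T)) m T -
          basI R (F.val.obj (op T)) m' T) = 0 := by
      rw [map_sub, map_sub, πT_bas_T, πT_bas_T, πT_bas_T]
      abel
    have h1 := hG _ hd
    rw [rs_sub, rs_sub, rs_basI, rs_basI, rs_basI] at h1
    have h2 : N.mkQ (basI R (F.val.obj (op T)) (m + m') Y - basI R (F.val.obj (op T)) m Y -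
        basI R (F.val.obj (op T)) m' Y) = 0 := (Submodule.Quotient.mk_eq_zero N).mpr h1
    rw [map_sub, map_sub, sub_sub, sub_eq_zero] at h2
    exact h2
  have hsmul : ∀ (a : R.obj.obj (op T)) (m : F.val.obj (op T)),
      ψ (a • m) = (R.obj.map (hT.from Y).op a : R.obj.obj (op Y)) • ψ m := by
    intro a m
    have hd : evAt _ _ T (πT hT F)
        (basI R (F.val.obj (op T)) (a • m) T - a • basI R (F.val.obj (op T)) m T) = 0 := by
      rw [map_sub, map_smul, πT_bas_T, πT_bas_T, sub_self]
    have h1 := hG _ hd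
    rw [rs_sub, rs_smul, rs_basI, rs_basI] at h1
    have h2 : N.mkQ (basI R (F.val.obj (op T)) (a • m) Y -
        (R.obj.map (hT.from Y).op a : R.obj.obj (op Y)) • basI R (F.val.obj (op T)) m Y) = 0 :=
      (Submodule.Quotient.mk_eq_zero N).mpr h1
    rw [map_sub, map_smul, sub_eq_zero] at h2
    exact h2
  obtain ⟨θ, hθ⟩ := hlift Y Q ψ hadd hsmul
  have hθπ : ∀ x : (SheafOfModules.free (R := R) (F.val.obj (op T))).val.obj (op Y),
      θ (evAt _ _ Y (πT hT F) x) = N.mkQ x := by
    intro x
    have hx := hJ.free_mem_span R (F.val.obj (op T)) Y x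
    induction hx using Submodule.span_induction with
    | mem x hx =>
      obtain ⟨m, rfl⟩ := hx
      rw [πT_bas, hθ]
    | zero => rw [map_zero, map_zero, map_zero]
    | add x y _ _ hx hy => rw [map_add, map_add, map_add, hx, hy]
    | smul a x _ hx => rw [map_smul, map_smul, map_smul, hx]
  have hx0 : evAt _ _ Y (kernel.ι (πT hT F)) κ ∈ N := by
    refine (Submodule.Quotient.mk_eq_zero N).mp ?_
    have e3 : evAt _ _ Y (πT hT F) (evAt _ _ Y (kernel.ι (πT hT F)) κ) = 0 :=
      kernel_ι_app (πT hT F) Y κ
    have e4 := hθπ (evAt _ _ Y (kernel.ι (πT hT F)) κ)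
    rw [e3, map_zero] at e4
    exact e4.symm
  obtain ⟨κ', hκ', hκ''⟩ := hx0
  have hinj := injective_of_mono (kernel.ι (πT hT F)) Y
  have : κ' = κ := hinj hκ''
  rw [← this]
  exact hκ'

theorem nonempty_presentation_of_bc (hJ : IsTriv J) (F : SheafOfModules.{u} R)
    (hspan : ∀ Y : C, BCSpan F (hT.from Y)) (hlift : ∀ Y : C, BCLift F (hT.from Y)) :
    Nonempty F.Presentation := by
  have e1 : Epi (πT hT F) := epi_of_surjective _ (πT_surjective hT F hspan)
  have e2 : Epi (πT hT (kernel (πT hT F))) :=
    epi_of_surjective _ (πT_surjective hT _ (kernel_bcSpan hT hJ F hlift))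
  exact ⟨{ generators := { I := F.val.obj (op T), s := sT hT F, epi := e1 }
           relations := { I := (kernel (πT hT F)).val.obj (op T)
                          s := sT hT (kernel (πT hT F))
                          epi := e2 } }⟩

end Crit

section Main
variable {C : Type u} [SmallCategory C] {J : GrothendieckTopology C} {R : Sheaf J RingCat.{u}}

theorem isQuasicoherent_of_bc (hJ : IsTriv J) (F : SheafOfModules.{u} R)
    (hspan : ∀ {U V : C} (g : U ⟶ V), BCSpan F g)
    (hlift : ∀ {U V : C} (g : U ⟶ V), BCLift F g) : F.IsQuasicoherent := by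
  have hpres : ∀ V : C, Nonempty (F.over V).Presentation := by
    intro V
    refine nonempty_presentation_of_bc (J := J.over V) (R := R.over V) (overTerminal V)
      (hJ.over V) (F.over V) ?_ ?_
    · intro Y n
      exact hspan Y.hom n
    · intro Y Q ψ hadd hsmul
      exact hlift Y.hom Q ψ hadd hsmul
  exact (SheafOfModules.QuasicoherentData.mk.{u} (M := F) C (fun V => V) coversTop_id
    (fun V => (hpres V).some)).isQuasicoherent

theorem bc_of_isQuasicoherent (hJ : IsTriv J) (F : SheafOfModules.{u} R)
    (hF : F.IsQuasicoherent) {U V : C} (g : U ⟶ V) : BCSpan F g ∧ BCLift F g := by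
  obtain ⟨q⟩ := hF.nonempty_quasicoherentData
  obtain ⟨i, ⟨h⟩⟩ := hJ.exists_hom_of_coversTop q.coversTop V
  let γ : Over.mk (g ≫ h) ⟶ Over.mk h := Over.homMk g (by simp)
  have h1 := bcSpan_of_presentation (J := J.over (q.X i)) (R := R.over (q.X i))
    (hJ.over (q.X i)) (F.over (q.X i)) (q.presentation i) γ
  have h2 := bcLift_of_presentation (J := J.over (q.X i)) (R := R.over (q.X i))
    (hJ.over (q.X i)) (F.over (q.X i)) (q.presentation i) γ
  exact ⟨fun n => h1 n, fun Q ψ hadd hsmul => h2 Q ψ hadd hsmul⟩

end Main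

end Groth.Agent.LD.Chaotic
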