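import Groth.Agent.Lib.Lead.Chaotic.Criterion
import Groth.Prelude.Def_ModSite

/-! # Base change as a natural transformation; kernels, cokernels and extensions. -/

universe u
open CategoryTheory Limits Opposite

namespace Groth.Agent.LD.Chaotic

section Abstract
variable {𝒜 ℬ : Type*} [Category 𝒜] [Abelian 𝒜] [Category ℬ] [Abelian ℬ] {Φ₁ Φ₂ : 𝒜 ⥤ ℬ}
  [PreservesFiniteLimits Φ₁] [PreservesFiniteLimits Φ₂]
  [PreservesFiniteColimits Φ₁] [PreservesFiniteColimits Φ₂]

omit [PreservesFiniteLimits Φ₁] [PreservesFiniteLimits Φ₂]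
  [PreservesFiniteColimits Φ₁] [PreservesFiniteColimits Φ₂] in
lemma inv_naturality (τ : Φ₁ ⟶ Φ₂) {F G : 𝒜} (α : F ⟶ G)
    [IsIso (τ.app F)] [IsIso (τ.app G)] :
    inv (τ.app F) ≫ Φ₁.map α = Φ₂.map α ≫ inv (τ.app G) := by
  rw [IsIso.inv_comp_eq, ← Category.assoc, ← τ.naturality, Category.assoc, IsIso.hom_inv_id,
    Category.comp_id]

theorem isIso_app_kernel (τ : Φ₁ ⟶ Φ₂) {F G : 𝒜} (α : F ⟶ G)
    [IsIso (τ.app F)] [IsIso (τ.app G)] : IsIso (τ.app (kernel α)) := by
  have hc₁ : IsLimit ((KernelFork.ofι (kernel.ι α) (kernel.condition α)).map Φ₁) :=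
    KernelFork.mapIsLimit _ (kernelIsKernel α) Φ₁
  have w : (Φ₂.map (kernel.ι α) ≫ inv (τ.app F)) ≫ Φ₁.map α = 0 := by
    rw [Category.assoc, inv_naturality τ α, ← Category.assoc, ← Φ₂.map_comp, kernel.condition,
      Φ₂.map_zero, zero_comp]
  obtain ⟨σ, hσ'⟩ : ∃ σ : Φ₂.obj (kernel α) ⟶ Φ₁.obj (kernel α),
      σ ≫ Φ₁.map (kernel.ι α) = Φ₂.map (kernel.ι α) ≫ inv (τ.app F) :=
    ⟨(KernelFork.IsLimit.lift' hc₁ _ w).1, (KernelFork.IsLimit.lift' hc₁ _ w).2⟩
  refine ⟨⟨σ, ?_, ?_⟩⟩
  · rw [← cancel_mono (Φ₁.map (kernel.ι α)), Category.assoc, hσ', ← Category.assoc,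
      ← τ.naturality, Category.assoc, IsIso.hom_inv_id, Category.comp_id, Category.id_comp]
  · rw [← cancel_mono (Φ₂.map (kernel.ι α)), Category.assoc, ← τ.naturality, ← Category.assoc,
      hσ', Category.assoc, IsIso.inv_hom_id, Category.comp_id, Category.id_comp]

theorem isIso_app_cokernel (τ : Φ₁ ⟶ Φ₂) {F G : 𝒜} (α : F ⟶ G)
    [IsIso (τ.app F)] [IsIso (τ.app G)] : IsIso (τ.app (cokernel α)) := by
  have hc₂ : IsColimit ((CokernelCofork.ofπ (cokernel.π α) (cokernel.condition α)).map Φ₂) :=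
    CokernelCofork.mapIsColimit _ (cokernelIsCokernel α) Φ₂
  have w : Φ₂.map α ≫ inv (τ.app G) ≫ Φ₁.map (cokernel.π α) = 0 := by
    rw [← Category.assoc, ← inv_naturality τ α, Category.assoc, ← Φ₁.map_comp,
      cokernel.condition, Φ₁.map_zero, comp_zero]
  obtain ⟨σ, hσ'⟩ : ∃ σ : Φ₂.obj (cokernel α) ⟶ Φ₁.obj (cokernel α),
      Φ₂.map (cokernel.π α) ≫ σ = inv (τ.app G) ≫ Φ₁.map (cokernel.π α) :=
    ⟨(CokernelCofork.IsColimit.desc' hc₂ _ w).1, (CokernelCofork.IsColimit.desc' hc₂ _ w).2⟩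
  refine ⟨⟨σ, ?_, ?_⟩⟩
  · rw [← cancel_epi (Φ₁.map (cokernel.π α)), ← Category.assoc, τ.naturality, Category.assoc,
      hσ', ← Category.assoc, IsIso.hom_inv_id, Category.id_comp, Category.comp_id]
  · rw [← cancel_epi (Φ₂.map (cokernel.π α)), ← Category.assoc, hσ', Category.assoc,
      τ.naturality, ← Category.assoc, IsIso.inv_hom_id, Category.id_comp, Category.comp_id]

theorem isIso_app_of_shortExact (τ : Φ₁ ⟶ Φ₂) (S : ShortComplex 𝒜) (hS : S.ShortExact)
    [h₁ : IsIso (τ.app S.X₁)] [h₃ : IsIso (τ.app S.X₃)] : IsIso (τ.app S.X₂) := by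
  have e1 := hS.map_of_exact Φ₁
  have e2 := hS.map_of_exact Φ₂
  haveI : IsIso (S.mapNatTrans τ).τ₁ := h₁
  haveI : IsIso (S.mapNatTrans τ).τ₃ := h₃
  exact ShortComplex.isIso₂_of_shortExact_of_isIso₁₃ (S.mapNatTrans τ) e1 e2

end Abstract

section Concrete
variable {C : Type u} [SmallCategory C] {J : GrothendieckTopology C}
  (O : Sheaf J CommRingCat.{u})

/-- evaluation, with values in modules over the commutative ring of sections. -/
noncomputable def evalC (X : C) :
    SheafOfModules.{u} (ModSite.ringSh O) ⥤ ModuleCat.{u} (O.obj.obj (op X)) :=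
  SheafOfModules.evaluation.{u} (ModSite.ringSh O) (op X)

lemma evalC_preservesFiniteLimits (X : C) : PreservesFiniteLimits (evalC O X) :=
  evaluation_preservesFiniteLimits (ModSite.ringSh O) (op X)

lemma evalC_preservesFiniteColimits (hJ : IsTriv J) (X : C) :
    PreservesFiniteColimits (evalC O X) :=
  hJ.evaluation_preservesFiniteColimits (ModSite.ringSh O) (op X)

/-- sections over `V`, extended to `O(U)`. -/
noncomputable def extC {U V : C} (g : U ⟶ V) :
    SheafOfModules.{u} (ModSite.ringSh O) ⥤ ModuleCat.{u} (O.obj.obj (op U)) :=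
  evalC O V ⋙ ModuleCat.extendScalars.{u, u, u} (O.obj.map g.op).hom

lemma extC_preservesFiniteLimits {U V : C} (g : U ⟶ V) (hg : (O.obj.map g.op).hom.Flat) :
    PreservesFiniteLimits (extC O g) := by
  haveI := evalC_preservesFiniteLimits O V
  haveI := ModuleCat.preservesFiniteLimits_extendScalars_of_flat hg
  exact comp_preservesFiniteLimits _ _

lemma extC_preservesFiniteColimits (hJ : IsTriv J) {U V : C} (g : U ⟶ V) :
    PreservesFiniteColimits (extC O g) := by
  haveI := evalC_preservesFiniteColimits O hJ V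
  exact comp_preservesFiniteColimits _ _

/-- the base-change map of a module along `g`. -/
noncomputable def bcApp {U V : C} (g : U ⟶ V) (F : SheafOfModules.{u} (ModSite.ringSh O)) :
    (extC O g).obj F ⟶ (evalC O U).obj F :=
  bcMap (O.obj.map g.op).hom
    (M := (F.val.obj (op V) : ModuleCat.{u} (O.obj.obj (op V))))
    (N := (F.val.obj (op U) : ModuleCat.{u} (O.obj.obj (op U)))) (F.val.map g.op)

/-- base change as a natural transformation. -/
noncomputable def bcNat {U V : C} (g : U ⟶ V) : extC O g ⟶ evalC O U where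
  app F := bcApp O g F
  naturality F G α := by
    have e1 := (ModuleCat.extendRestrictScalarsAdj
      (O.obj.map g.op).hom).homEquiv_naturality_left_symm
      (Y := (G.val.obj (op U) : ModuleCat.{u} (O.obj.obj (op U))))
      (α.val.app (op V)) (G.val.map g.op)
    have e2 := (ModuleCat.extendRestrictScalarsAdj
      (O.obj.map g.op).hom).homEquiv_naturality_right_symm
      (X := (F.val.obj (op V) : ModuleCat.{u} (O.obj.obj (op V))))
      (F.val.map g.op) (α.val.app (op U))
    exact e1.symm.trans ((congrArg _ (α.val.naturality g.op).symm).trans e2)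

variable {O}

theorem isIso_bc_kernel_cokernel (hJ : IsTriv J)
    (hO : ∀ (U V : C) (g : U ⟶ V), (O.obj.map g.op).hom.Flat)
    {F G : SheafOfModules.{u} (ModSite.ringSh O)} (α : F ⟶ G)
    (hF : ∀ (U V : C) (g : U ⟶ V), IsIso (bcApp O g F))
    (hG : ∀ (U V : C) (g : U ⟶ V), IsIso (bcApp O g G)) :
    (∀ (U V : C) (g : U ⟶ V), IsIso (bcApp O g (kernel α))) ∧
      (∀ (U V : C) (g : U ⟶ V), IsIso (bcApp O g (cokernel α))) := by
  constructor
  · intro U V g
    haveI := extC_preservesFiniteLimits O g (hO U V g)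
    haveI := extC_preservesFiniteColimits O hJ g
    haveI := evalC_preservesFiniteLimits O U
    haveI := evalC_preservesFiniteColimits O hJ U
    haveI : IsIso ((bcNat O g).app F) := hF U V g
    haveI : IsIso ((bcNat O g).app G) := hG U V g
    exact isIso_app_kernel (bcNat O g) α
  · intro U V g
    haveI := extC_preservesFiniteLimits O g (hO U V g)
    haveI := extC_preservesFiniteColimits O hJ g
    haveI := evalC_preservesFiniteLimits O U
    haveI := evalC_preservesFiniteColimits O hJ U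
    haveI : IsIso ((bcNat O g).app F) := hF U V g
    haveI : IsIso ((bcNat O g).app G) := hG U V g
    exact isIso_app_cokernel (bcNat O g) α

theorem isIso_bc_of_shortExact (hJ : IsTriv J)
    (hO : ∀ (U V : C) (g : U ⟶ V), (O.obj.map g.op).hom.Flat)
    (S : ShortComplex (SheafOfModules.{u} (ModSite.ringSh O))) (hS : S.ShortExact)
    (h₁ : ∀ (U V : C) (g : U ⟶ V), IsIso (bcApp O g S.X₁))
    (h₃ : ∀ (U V : C) (g : U ⟶ V), IsIso (bcApp O g S.X₃)) :
    ∀ (U V : C) (g : U ⟶ V), IsIso (bcApp O g S.X₂) := by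
  intro U V g
  haveI := extC_preservesFiniteLimits O g (hO U V g)
  haveI := extC_preservesFiniteColimits O hJ g
  haveI := evalC_preservesFiniteLimits O U
  haveI := evalC_preservesFiniteColimits O hJ U
  haveI : IsIso ((bcNat O g).app S.X₁) := h₁ U V g
  haveI : IsIso ((bcNat O g).app S.X₃) := h₃ U V g
  exact isIso_app_of_shortExact (bcNat O g) S hS

end Concrete

end Groth.Agent.LD.Chaotic
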