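import Groth.Agent.Lib.Lead.RSp.SlicePres

/-! # Sheaves of modules for a topology in which only the maximal sieves cover. -/

universe u
open CategoryTheory Limits Opposite

namespace Groth.Agent.LD.Chaotic

open Groth.Agent.LD.RSp

section Triv
variable {C : Type u} [SmallCategory C]

/-- only maximal sieves are covering. -/
def IsTriv (J : GrothendieckTopology C) : Prop := ∀ (X : C) (S : Sieve X), S ∈ J X → S = ⊤

lemma isTriv_bot : IsTriv (⊥ : GrothendieckTopology C) :=
  fun _ _ h => GrothendieckTopology.bot_covering.mp h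

variable {J : GrothendieckTopology C}

lemma IsTriv.over (hJ : IsTriv J) (V : C) : IsTriv (J.over V) := by
  intro Y S h
  have h1 : Sieve.overEquiv Y S = ⊤ := hJ _ _ ((J.mem_over_iff S).mp h)
  apply (Sieve.overEquiv Y).injective
  rw [h1, OrderIso.map_top]

lemma IsTriv.isSheaf (hJ : IsTriv J) {A : Type*} [Category A] (P : Cᵒᵖ ⥤ A) :
    Presheaf.IsSheaf J P := by
  intro E X S hS
  obtain rfl := hJ X S hS
  exact Presieve.isSheafFor_top_sieve _

lemma IsTriv.forget_isEquivalence (hJ : IsTriv J) (R : Sheaf J RingCat.{u}) :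
    (SheafOfModules.forget.{u} R).IsEquivalence where
  essSurj := ⟨fun P => ⟨⟨P, hJ.isSheaf _⟩, ⟨Iso.refl _⟩⟩⟩

lemma IsTriv.forget_preservesColimits (hJ : IsTriv J) (R : Sheaf J RingCat.{u}) :
    PreservesColimitsOfSize.{u, u} (SheafOfModules.forget.{u} R) := by
  haveI := hJ.forget_isEquivalence R
  infer_instance

lemma IsTriv.evaluation_preservesColimits (hJ : IsTriv J) (R : Sheaf J RingCat.{u}) (X : Cᵒᵖ) :
    PreservesColimitsOfSize.{u, u} (SheafOfModules.evaluation.{u} R X) := by
  haveI := hJ.forget_preservesColimits R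
  change PreservesColimitsOfSize.{u, u}
    (SheafOfModules.forget.{u} R ⋙ PresheafOfModules.evaluation.{u} R.obj X)
  infer_instance

lemma evaluation_preservesFiniteLimits (R : Sheaf J RingCat.{u}) (X : Cᵒᵖ) :
    PreservesFiniteLimits (SheafOfModules.evaluation.{u} R X) := by
  change PreservesFiniteLimits
    (SheafOfModules.forget.{u} R ⋙ PresheafOfModules.evaluation.{u} R.obj X)
  infer_instance

lemma IsTriv.evaluation_preservesFiniteColimits (hJ : IsTriv J) (R : Sheaf J RingCat.{u})
    (X : Cᵒᵖ) : PreservesFiniteColimits (SheafOfModules.evaluation.{u} R X) := by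
  haveI := hJ.evaluation_preservesColimits R X
  exact PreservesColimitsOfSize.preservesFiniteColimits.{u, u} _

/-- the basis sections of a free module (no finiteness). -/
noncomputable def basI (R : Sheaf J RingCat.{u}) (I : Type u) (i : I) (X : C) :
    (SheafOfModules.free (R := R) I).val.obj (op X) :=
  evAt _ _ X (SheafOfModules.ιFree (R := R) i) (1 : R.obj.obj (op X))

lemma rs_basI (R : Sheaf J RingCat.{u}) (I : Type u) (i : I) {V W : C} (g : W ⟶ V) :
    rs (SheafOfModules.free (R := R) I) g (basI R I i V) = basI R I i W := by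
  have h := app_rs (SheafOfModules.ιFree (R := R) i) g (1 : R.obj.obj (op V))
  rw [rs_unit_apply, map_one] at h
  exact h.symm

lemma freeHom_basI (R : Sheaf J RingCat.{u}) (I : Type u) (M : SheafOfModules.{u} R)
    (s : I → M.sections) (i : I) (X : C) :
    evAt _ _ X (M.freeHomEquiv.symm s) (basI R I i X) =
      PresheafOfModules.sections.eval (s i) (op X) :=
  freeHom_apply_basis M s X i

lemma ιFree_apply (R : Sheaf J RingCat.{u}) (I : Type u) (i : I) (X : C)
    (x : R.obj.obj (op X)) :
    evAt _ _ X (SheafOfModules.ιFree (R := R) i) x = x • basI R I i X :=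
  lin_apply_eq_smul_one (A := R.obj.obj (op X))
    (evAt _ _ X (SheafOfModules.ιFree (R := R) i)) x

/-- for a trivial topology, the sections of a free module form a coproduct. -/
noncomputable def IsTriv.isColimitFreeSections (hJ : IsTriv J) (R : Sheaf J RingCat.{u})
    (I : Type u) (X : C) :
    IsColimit (Cofan.mk
      ((SheafOfModules.evaluation.{u} R (op X)).obj (SheafOfModules.free (R := R) I))
      (fun i : I => (SheafOfModules.evaluation.{u} R (op X)).map
        (SheafOfModules.ιFree (R := R) i))) := by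
  haveI := hJ.evaluation_preservesColimits R (op X)
  exact isColimitCofanMkObjOfIsColimit (SheafOfModules.evaluation.{u} R (op X)) _ _
    (SheafOfModules.isColimitFreeCofan (R := R) I)

theorem IsTriv.free_hom_ext (hJ : IsTriv J) (R : Sheaf J RingCat.{u}) (I : Type u) (X : C)
    {Q : ModuleCat.{u} (R.obj.obj (op X))}
    (a b : (SheafOfModules.free (R := R) I).val.obj (op X) ⟶ Q)
    (h : ∀ i, a.hom (basI R I i X) = b.hom (basI R I i X)) : a = b := by
  refine Cofan.IsColimit.hom_ext (hJ.isColimitFreeSections R I X) a b (fun i => ?_)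
  apply ModuleCat.hom_ext
  apply LinearMap.ext
  intro (x : R.obj.obj (op X))
  change a.hom (evAt _ _ X (SheafOfModules.ιFree (R := R) i) x) =
    b.hom (evAt _ _ X (SheafOfModules.ιFree (R := R) i) x)
  rw [ιFree_apply, map_smul, map_smul, h i]

theorem IsTriv.free_exists_desc (hJ : IsTriv J) (R : Sheaf J RingCat.{u}) (I : Type u) (X : C)
    (Q : ModuleCat.{u} (R.obj.obj (op X))) (q : I → Q) :
    ∃ a : (SheafOfModules.free (R := R) I).val.obj (op X) ⟶ Q,
      ∀ i, a.hom (basI R I i X) = q i := by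
  let fam : ∀ _ : I,
      ((SheafOfModules.evaluation.{u} R (op X)).obj (SheafOfModules.unit R) ⟶ Q) :=
    fun i => ModuleCat.ofHom (X := R.obj.obj (op X))
      (LinearMap.toSpanSingleton (R.obj.obj (op X)) Q (q i))
  refine ⟨Cofan.IsColimit.desc (hJ.isColimitFreeSections R I X) fam, fun i => ?_⟩
  have h := Cofan.IsColimit.fac (hJ.isColimitFreeSections R I X) fam i
  have h2 := congrArg (fun t : (SheafOfModules.evaluation.{u} R (op X)).obj
    (SheafOfModules.unit R) ⟶ Q => t.hom (1 : R.obj.obj (op X))) h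
  exact h2.trans (one_smul _ _)

theorem IsTriv.free_mem_span (hJ : IsTriv J) (R : Sheaf J RingCat.{u}) (I : Type u) (X : C)
    (z : (SheafOfModules.free (R := R) I).val.obj (op X)) :
    z ∈ Submodule.span (R.obj.obj (op X)) (Set.range fun i : I => basI R I i X) := by
  let S : Submodule (R.obj.obj (op X)) ((SheafOfModules.free (R := R) I).val.obj (op X)) :=
    Submodule.span (R.obj.obj (op X)) (Set.range fun i : I => basI R I i X)
  change z ∈ S
  let Q : ModuleCat.{u} (R.obj.obj (op X)) :=
    ModuleCat.of _ (((SheafOfModules.free (R := R) I).val.obj (op X)) ⧸ S)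
  let q : (SheafOfModules.free (R := R) I).val.obj (op X) ⟶ Q := ModuleCat.ofHom S.mkQ
  have h3 : q = 0 := hJ.free_hom_ext R I X q 0 (fun i =>
    (Submodule.Quotient.mk_eq_zero S).mpr (Submodule.subset_span ⟨i, rfl⟩))
  have h4 : S.mkQ z = 0 :=
    congrArg (fun t : (SheafOfModules.free (R := R) I).val.obj (op X) ⟶ Q => t.hom z) h3
  exact (Submodule.Quotient.mk_eq_zero S).mp h4

theorem IsTriv.surjective_of_epi (hJ : IsTriv J) {R : Sheaf J RingCat.{u}}
    {M N : SheafOfModules.{u} R} (φ : M ⟶ N) [Epi φ] (X : C) :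
    Function.Surjective (evAt M N X φ) := by
  intro t
  obtain ⟨S, hS, hS'⟩ := exists_sieve_of_epi φ X t
  obtain rfl := hJ X S hS
  obtain ⟨m, hm⟩ := hS' (𝟙 X) (Sieve.top_apply _)
  exact ⟨m, hm.trans (rs_id N X t)⟩

theorem epi_of_surjective {R : Sheaf J RingCat.{u}} {M N : SheafOfModules.{u} R} (φ : M ⟶ N)
    (h : ∀ X : C, Function.Surjective (evAt M N X φ)) : Epi φ := by
  apply epi_of_exists_sieve
  intro U t
  refine ⟨⊤, J.top_mem U, fun V g _ => ?_⟩
  obtain ⟨m, hm⟩ := h V (rs N g t)
  exact ⟨m, hm⟩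

theorem IsTriv.exists_hom_of_coversTop (hJ : IsTriv J) {ι : Type*} {X : ι → C}
    (h : J.CoversTop X) (V : C) : ∃ i, Nonempty (V ⟶ X i) := by
  have h1 := hJ V _ (h V)
  have h2 : (Sieve.ofObjects X V).arrows (𝟙 V) := by
    rw [h1]
    exact Sieve.top_apply _
  exact (Sieve.mem_ofObjects_iff X (𝟙 V)).mp h2

lemma coversTop_id : J.CoversTop (fun V : C => V) := by
  intro X
  have h : Sieve.ofObjects (fun V : C => V) X = ⊤ :=
    Sieve.id_mem_iff_eq_top.mp ((Sieve.mem_ofObjects_iff _ _).mpr ⟨X, ⟨𝟙 X⟩⟩)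
  rw [h]
  exact J.top_mem X

end Triv

end Groth.Agent.LD.Chaotic
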